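import Groth.Agent.S0503
import Groth.Agent.L27.EtSite.Points
import Mathlib.AlgebraicGeometry.Morphisms.Etale
import Mathlib.AlgebraicGeometry.Morphisms.UniversallyOpen
import Mathlib.AlgebraicGeometry.Morphisms.Finite
import Mathlib.RingTheory.Etale.QuasiFinite

/-! # Finite etale neighbourhoods over a henselian local scheme -/

universe u

open CategoryTheory CategoryTheory.Limits AlgebraicGeometry Opposite

set_option autoImplicit false
set_option backward.isDefEq.respectTransparency.types false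
set_option linter.style.haveILetI false

noncomputable section

namespace Groth.L27.HenselClosed

variable (A : Type u) [CommRing A] [HenselianLocalRing A]

/-- Etale schemes meeting the closed fibre receive maps from finite etale coverings. -/
theorem exists_finite_etale_nhd (U : (Spec (CommRingCat.of A)).Etale) (x : U.left)
    (hx : U.hom x = IsLocalRing.closedPoint A) :
    ∃ (V : (Spec (CommRingCat.of A)).Etale) (_ : V ⟶ U), IsFinite V.hom ∧ Surjective V.hom := by
  haveI : AlgebraicGeometry.Etale U.hom := U.prop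
  obtain ⟨_, ⟨W, hW, rfl⟩, hxW, -⟩ := U.left.isBasis_affineOpens.exists_subset_of_mem_open
    (Set.mem_univ x) isOpen_univ
  let j : Spec Γ(U.left, W) ⟶ U.left := hW.fromSpec
  obtain ⟨q, hq⟩ : x ∈ Set.range j := hW.range_fromSpec.symm ▸ hxW
  obtain ⟨φ, hφ⟩ : ∃ φ : CommRingCat.of A ⟶ Γ(U.left, W), Spec.map φ = j ≫ U.hom := Spec.map_surjective _
  letI : Algebra A Γ(U.left, W) := φ.hom.toAlgebra
  have het : φ.hom.Etale :=
    (HasRingHomProperty.Spec_iff (P := @AlgebraicGeometry.Etale)).1 (hφ ▸ inferInstance)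
  haveI : Algebra.Etale A Γ(U.left, W) := het
  obtain ⟨e, he, hfin, htop⟩ := Groth.Agent.S0503.result A Γ(U.left, W)
  let T := Γ(U.left, W) ⧸ Ideal.span ({1 - e} : Set Γ(U.left, W))
  have hqmax : q.asIdeal.comap (algebraMap A Γ(U.left, W)) = IsLocalRing.maximalIdeal A := by
    have h1 : (j ≫ U.hom) q = IsLocalRing.closedPoint A := by rw [Scheme.Hom.comp_apply, hq, hx]
    rw [← hφ] at h1
    exact congrArg PrimeSpectrum.asIdeal h1
  have h1e : 1 - e ∈ q.asIdeal := by
    refine (q.isPrime.mem_or_mem (show e * (1 - e) ∈ q.asIdeal by rw [he.mul_one_sub_self]; exact q.asIdeal.zero_mem)).resolve_left fun hmem => ?_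
    have hle : Ideal.span ({e} : Set Γ(U.left, W)) ≤ q.asIdeal := (Ideal.span_singleton_le_iff_mem _).2 hmem
    have hmap : Ideal.map (algebraMap A Γ(U.left, W)) (IsLocalRing.maximalIdeal A) ≤ q.asIdeal :=
      Ideal.map_le_iff_le_comap.2 hqmax.ge
    refine q.isPrime.ne_top ?_
    have : Ideal.map (Ideal.Quotient.mk (Ideal.span ({e} : Set Γ(U.left, W)))) q.asIdeal = ⊤ := by
      refine top_le_iff.1 (htop.ge.trans ?_)
      rw [IsScalarTower.algebraMap_eq A Γ(U.left, W), ← Ideal.map_map]
      exact Ideal.map_mono hmap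
    have h3 := congrArg (Ideal.comap (Ideal.Quotient.mk (Ideal.span ({e} : Set Γ(U.left, W))))) this
    rwa [Ideal.comap_map_of_surjective _ Ideal.Quotient.mk_surjective, ← RingHom.ker_eq_comap_bot, Ideal.mk_ker,
      Ideal.comap_top, sup_eq_left.2 hle] at h3
  haveI : IsLocalization.Away e T := IsLocalization.away_of_isIdempotentElem he Ideal.mk_ker Ideal.Quotient.mk_surjective
  let π : Γ(U.left, W) ⟶ CommRingCat.of T := CommRingCat.ofHom (algebraMap Γ(U.left, W) T)
  haveI : IsOpenImmersion (Spec.map π) := IsOpenImmersion.of_isLocalization e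
  let V : (Spec (CommRingCat.of A)).Etale :=
    @Scheme.Etale.mk _ (Spec (CommRingCat.of T)) ((Spec.map π ≫ j) ≫ U.hom) inferInstance
  refine ⟨V, MorphismProperty.Over.homMk (Spec.map π ≫ j) rfl, ?_, ?_⟩
  · show IsFinite ((Spec.map π ≫ j) ≫ U.hom)
    rw [Category.assoc, ← hφ, ← Spec.map_comp, IsFinite.SpecMap_iff]
    show RingHom.Finite ((algebraMap Γ(U.left, W) T).comp (algebraMap A Γ(U.left, W)))
    rw [← IsScalarTower.algebraMap_eq]
    exact RingHom.finite_algebraMap.2 hfin
  · have hle : Ideal.span ({1 - e} : Set Γ(U.left, W)) ≤ q.asIdeal := (Ideal.span_singleton_le_iff_mem _).2 h1e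
    obtain ⟨p, hp⟩ : q ∈ Set.range (Spec.map π) := by
      have hker : RingHom.ker (algebraMap Γ(U.left, W) T) ≤ q.asIdeal := (Ideal.mk_ker.trans_le hle :)
      exact (Set.ext_iff.1 (range_comap_of_surjective _ (algebraMap Γ(U.left, W) T) Ideal.Quotient.mk_surjective) q).2 hker
    refine ⟨fun y => ?_⟩
    haveI : AlgebraicGeometry.Etale V.hom := V.prop
    obtain ⟨v, hv⟩ : IsLocalRing.closedPoint A ∈ Set.range V.hom :=
      ⟨p, by show ((Spec.map π ≫ j) ≫ U.hom) p = _; rw [Scheme.Hom.comp_apply, Scheme.Hom.comp_apply, hp, hq, hx]⟩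
    let vh : V.left ⟶ Spec (CommRingCat.of A) := V.hom
    haveI : AlgebraicGeometry.Etale vh := V.prop
    exact (IsLocalRing.specializes_closedPoint y).mem_open vh.isOpenMap.isOpen_range ⟨v, hv⟩

end Groth.L27.HenselClosed
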