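import Groth.Agent.L27.HenselClosed.Nhd
import Groth.Agent.L27.EtSite.PropA
import Groth.Agent.L27.EtSite.PropB
import Groth.Agent.L27.EtSite.PushStalk
import Groth.Agent.L27.EtSite.PushFinite
import Groth.Agent.L27.EtSite.HofPush
import Groth.Agent.L27.EtSite.Common
import Groth.Agent.L27.LimCoh.HMaps
import Mathlib.CategoryTheory.Sites.LocallySurjective
import Mathlib.FieldTheory.IsAlgClosed.AlgebraicClosure
import Mathlib.Algebra.Homology.ShortComplex.ShortExact

/-! # Cohomology of henselian local schemes is that of the closed point -/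

universe u

open CategoryTheory CategoryTheory.Limits AlgebraicGeometry Opposite CategoryTheory.Abelian

set_option autoImplicit false
set_option backward.isDefEq.respectTransparency.types false
set_option linter.style.haveILetI false

noncomputable section

namespace Groth.L27.HenselClosed

section Eta

variable {X Y : Scheme.{u}} (π : X ⟶ Y)

/-- The unit of pullback and pushforward is a monomorphism along surjections. -/
theorem mono_unit [Surjective π] (F : EtCoh.Ab Y) : Mono ((EtCoh.pullPushAdj π).unit.app F) := by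
  have h : IsSplitMono ((EtCoh.pull π).map ((EtCoh.pullPushAdj π).unit.app F)) :=
    ⟨⟨⟨(EtCoh.pullPushAdj π).counit.app _, (EtCoh.pullPushAdj π).left_triangle_components F⟩⟩⟩
  haveI : Sheaf.IsLocallyInjective ((EtCoh.pullPushAdj π).unit.app F) := by
    refine EtSite.isLocallyInjective_of_some_stalks _ fun y => ?_
    obtain ⟨x, rfl⟩ := π.surjective y
    obtain ⟨Ω, _, _, ξ, rfl⟩ := EtSite.exists_geometric_point x
    refine ⟨Ω, inferInstance, inferInstance, ξ ≫ π, rfl, ?_⟩
    have : Mono ((EtCoh.pull π ⋙ EtCoh.stalk ξ).map ((EtCoh.pullPushAdj π).unit.app F)) :=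
      inferInstanceAs (Mono ((EtCoh.stalk ξ).map ((EtCoh.pull π).map _)))
    exact (AddCommGrpCat.mono_iff_injective _).1 (((MorphismProperty.monomorphisms _).arrow_mk_iso_iff
      (((Functor.mapArrowFunctor _ _).mapIso (EtSite.stalkPullIso π ξ)).app (Arrow.mk _))).1 this)
  exact Sheaf.mono_of_isLocallyInjective _

end Eta

variable {A : Type u} [CommRing A] [HenselianLocalRing A]

variable (A) in
/-- An algebraically closed point over the closed point. -/
abbrev closedGeom : Spec (CommRingCat.of (AlgebraicClosure (IsLocalRing.ResidueField A))) ⟶ Spec (CommRingCat.of A) :=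
  Spec.map (CommRingCat.ofHom (algebraMap (IsLocalRing.ResidueField A) (AlgebraicClosure (IsLocalRing.ResidueField A)))) ≫
    Spec.map (CommRingCat.ofHom (IsLocalRing.residue A))

theorem closedGeom_apply : closedGeom A default = IsLocalRing.closedPoint A := by
  rw [Scheme.Hom.comp_apply]
  exact (PrimeSpectrum.ext ((congrArg (Ideal.comap (IsLocalRing.residue A)) (Ideal.eq_bot_of_prime _)).trans ((RingHom.ker_eq_comap_bot _).symm.trans IsLocalRing.ker_residue)))

/-- Sheaves with zero stalk at the closed point have no global sections. -/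
theorem gsec_eq_zero (K : EtCoh.Ab (Spec (CommRingCat.of A))) (hK : IsZero ((EtCoh.stalk (closedGeom A)).obj K))
    (s : K.obj.obj (op (EtCoh.top (Spec (CommRingCat.of A))))) : s = 0 := by
  obtain ⟨y, hy⟩ := EtSite.exists_fiber (closedGeom A) (EtCoh.top (Spec (CommRingCat.of A))) (closedGeom A default) rfl
  haveI : Subsingleton ↑((EtCoh.stalk (closedGeom A)).obj K) := AddCommGrpCat.subsingleton_of_isZero hK
  obtain ⟨V, c, v, -, hc⟩ := ((Scheme.pointSmallEtale (closedGeom A)).toPresheafFiber_eq_iff' _ y s 0).1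
    (Subsingleton.elim (α := ↑((EtCoh.stalk (closedGeom A)).obj K)) _ _)
  haveI : AlgebraicGeometry.Etale V.hom := V.prop
  refine EtSite.ext_of_locally K fun p => ?_
  have hv : IsLocalRing.closedPoint A ∈ Set.range V.hom :=
    ⟨v.left (default : Spec (CommRingCat.of (AlgebraicClosure (IsLocalRing.ResidueField A)))), (EtSite.fiber_apply v).trans closedGeom_apply⟩
  obtain ⟨w, hw⟩ := (IsLocalRing.specializes_closedPoint (p : PrimeSpectrum A)).mem_open V.hom.isOpenMap.isOpen_range hv
  exact ⟨V, c, w, ((congrArg (fun k => k w) (MorphismProperty.Over.w c)).trans hw :), hc⟩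

/-- Stalks at the closed point of `π_* π^* K`. -/
theorem isZero_stalk_pushPull {X : Scheme.{u}} (π : X ⟶ (Spec (CommRingCat.of A))) [IsFinite π] (K : EtCoh.Ab (Spec (CommRingCat.of A)))
    (hK : IsZero ((EtCoh.stalk (closedGeom A)).obj K)) :
    IsZero ((EtCoh.stalk (closedGeom A)).obj ((EtCoh.push π).obj ((EtCoh.pull π).obj K))) := by
  obtain ⟨e⟩ := EtSite.PushFinite.nonempty_stalk_push_iso π (closedGeom A) ((EtCoh.pull π).obj K)
  refine IsZero.of_iso ?_ e
  have hz : ∀ ξ : {ξ : Spec (CommRingCat.of (AlgebraicClosure (IsLocalRing.ResidueField A))) ⟶ X // ξ ≫ π = closedGeom A},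
      IsZero ((EtCoh.stalk ξ.1).obj ((EtCoh.pull π).obj K)) := fun ξ =>
    IsZero.of_iso (by rw [ξ.2]; exact hK) ((EtSite.stalkPullIso π ξ.1).app K)
  exact (IsZero.iff_id_eq_zero _).2 (Sigma.hom_ext _ _ fun ξ => (hz ξ).eq_of_src _ _)

section Efface

variable {X : Scheme.{u}} (π : X ⟶ (Spec (CommRingCat.of A)))

/-- The pushforward of the pullback. -/
abbrev T : EtCoh.Ab (Spec (CommRingCat.of A)) ⥤ EtCoh.Ab (Spec (CommRingCat.of A)) := EtCoh.pull π ⋙ EtCoh.push π

/-- The unit. -/
abbrev η : 𝟭 (EtCoh.Ab (Spec (CommRingCat.of A))) ⟶ T π := (EtCoh.pullPushAdj π).unit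

end Efface

theorem preservesFiniteLimits_T {X : Scheme.{u}} (π : X ⟶ (Spec (CommRingCat.of A))) : PreservesFiniteLimits (T π) := by
  haveI := EtSite.preservesFiniteLimits_pull π
  have : PreservesLimitsOfSize.{0, 0} (EtCoh.push π) := (EtCoh.pullPushAdj π).rightAdjoint_preservesLimits
  have : PreservesFiniteLimits (EtCoh.push π) := PreservesLimitsOfSize.preservesFiniteLimits _
  exact comp_preservesFiniteLimits _ _

theorem shortExact_map_T {X : Scheme.{u}} (π : X ⟶ (Spec (CommRingCat.of A))) [IsFinite π] {E : ShortComplex (EtCoh.Ab (Spec (CommRingCat.of A)))}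
    (hE : E.ShortExact) : (E.map (T π)).ShortExact := by
  haveI := preservesFiniteLimits_T π
  haveI : Mono E.f := hE.mono_f
  haveI : Epi E.g := hE.epi_g
  haveI : Mono ((T π).map E.f) := inferInstance
  haveI : (EtCoh.pull π).PreservesEpimorphisms :=
    Functor.preservesEpimorphisms_of_adjunction (EtCoh.pullPushAdj π)
  haveI := EtSite.preservesEpimorphisms_push π (EtSite.propB_of_isIntegralHom π)
  haveI : Epi ((T π).map E.g) := inferInstanceAs (Epi ((EtCoh.push π).map ((EtCoh.pull π).map E.g)))
  exact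
    { exact := ShortComplex.exact_of_f_is_kernel _ (isLimitForkMapOfIsLimit' (T π) E.zero hE.fIsKernel)
      mono_f := ‹Mono ((T π).map E.f)›
      epi_g := ‹Epi ((T π).map E.g)› }

/-- Every positive degree class becomes zero on some finite etale covering. -/
theorem exists_efface (n : ℕ) : ∀ (F : EtCoh.Ab (Spec (CommRingCat.of A))) (ξ : EtCoh.H (Spec (CommRingCat.of A)) F (n + 1)),
    ∃ (V : Scheme.Etale (Spec (CommRingCat.of A))) (_ : IsFinite V.hom) (_ : Surjective V.hom),
      (EtCoh.HF (Spec (CommRingCat.of A)) (n + 1)).map ((η V.hom).app F) ξ = 0 := by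
  induction n with
  | zero =>
    intro F ξ
    let E := ShortComplex.mk (Injective.ι F) (cokernel.π _) (cokernel.condition _)
    have hE : E.ShortExact := { exact := ShortComplex.exact_of_g_is_cokernel _ (cokernelIsCokernel _) }
    obtain ⟨q, rfl⟩ := Ext.covariant_sequence_exact₁ _ hE ξ (Ext.eq_zero_of_injective _) (zero_add 1)
    let s := LimCoh.secEq E.X₃ q
    haveI : Epi E.g := hE.epi_g
    haveI : Sheaf.IsLocallySurjective E.g := (Sheaf.isLocallySurjective_iff_epi' (φ := E.g)).2 inferInstance
    have hcov := Presheaf.imageSieve_mem (J := Scheme.smallEtaleTopology (Spec (CommRingCat.of A))) E.g.hom s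
    obtain ⟨U, c, x, hcmem, hx⟩ := (EtSite.mem_topology_iff _).1 hcov (IsLocalRing.closedPoint A)
    obtain ⟨V, d, hfin, hsurj⟩ := exists_finite_etale_nhd A U x
      ((congrArg (fun k => k x) (MorphismProperty.Over.w c)).symm.trans hx)
    obtain ⟨t, ht⟩ := (Presheaf.imageSieve E.g.hom s).downward_closed hcmem d
    refine ⟨V, hfin, hsurj, ?_⟩
    let W := (EtCoh.bc V.hom).obj (EtCoh.top (Spec (CommRingCat.of A)))
    let k : W ⟶ (EtCoh.bc V.hom).obj V := MorphismProperty.Over.homMk
      (pullback.lift (pullback.snd _ _) (pullback.snd _ _) rfl) (pullback.lift_snd _ _ _)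
    have hk : k ≫ (EtCoh.bc V.hom).map (d ≫ c) = 𝟙 W := (EtCore.bcTopIsTerminal V.hom).hom_ext _ _
    let TV := T V.hom
    let t' : (TV.obj E.X₂).obj.obj (op (EtCoh.top (Spec (CommRingCat.of A)))) :=
      ((EtCoh.pull V.hom).obj E.X₂).obj.map k.op (((η V.hom).app E.X₂).hom.app (op V) t)
    have ht' : (TV.map E.g).hom.app (op (EtCoh.top (Spec (CommRingCat.of A)))) t' = ((η V.hom).app E.X₃).hom.app (op (EtCoh.top (Spec (CommRingCat.of A)))) s := by
      show ((EtCoh.pull V.hom).map E.g).hom.app (op W)
        (((EtCoh.pull V.hom).obj E.X₂).obj.map k.op (((η V.hom).app E.X₂).hom.app (op V) t)) = _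
      rw [NatTrans.naturality_apply]
      have h1 : ((EtCoh.pull V.hom).map E.g).hom.app (op ((EtCoh.bc V.hom).obj V)) (((η V.hom).app E.X₂).hom.app (op V) t) =
          ((η V.hom).app E.X₃).hom.app (op V) (E.g.hom.app (op V) t) :=
        (congrArg (fun m : E.X₂ ⟶ TV.obj E.X₃ => m.hom.app (op V) t) ((η V.hom).naturality E.g)).symm
      rw [h1, ht]
      refine (congrArg _ (NatTrans.naturality_apply ((η V.hom).app E.X₃).hom (d ≫ c).op s)).trans ?_
      show ((EtCoh.pull V.hom).obj E.X₃).obj.map k.op (((EtCoh.pull V.hom).obj E.X₃).obj.map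
        ((EtCoh.bc V.hom).map (d ≫ c)).op (((η V.hom).app E.X₃).hom.app (op (EtCoh.top (Spec (CommRingCat.of A)))) s)) = _
      rw [← ConcreteCategory.comp_apply, ← Functor.map_comp, ← op_comp, hk, op_id]
      exact ConcreteCategory.congr_hom (CategoryTheory.Functor.map_id _ _) _
    have hE' := shortExact_map_T V.hom hE
    let φ : E ⟶ E.map TV :=
      { τ₁ := (η V.hom).app E.X₁
        τ₂ := (η V.hom).app E.X₂
        τ₃ := (η V.hom).app E.X₃
        comm₁₂ := ((η V.hom).naturality E.f).symm
        comm₂₃ := ((η V.hom).naturality E.g).symm }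
    have hq : (EtCoh.HF (Spec (CommRingCat.of A)) 0).map ((η V.hom).app E.X₃) q =
        (EtCoh.HF (Spec (CommRingCat.of A)) 0).map (TV.map E.g) ((LimCoh.secEq (TV.obj E.X₂)).symm t') := by
      apply (LimCoh.secEq (TV.obj E.X₃)).injective
      rw [LimCoh.secEq_map, LimCoh.secEq_map, AddEquiv.apply_symm_apply]
      exact ht'.symm
    rw [EtSite.HF_map_apply]
    refine (Ext.comp_assoc_of_third_deg_zero _ _ _ _).trans ?_
    refine (congrArg (fun z => q.comp z (zero_add 1)) (ShortComplex.ShortExact.extClass_naturality hE hE' φ)).trans ?_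
    refine (Ext.comp_assoc_of_second_deg_zero _ _ _ _).symm.trans ?_
    have hq' := (EtSite.HF_map_apply ((η V.hom).app E.X₃) 0 q).symm.trans
      (hq.trans (EtSite.HF_map_apply (TV.map E.g) 0 _))
    refine (congrArg (fun z => Ext.comp z hE'.extClass (zero_add 1)) hq').trans ?_
    refine (Ext.comp_assoc_of_second_deg_zero _ _ _ _).trans ?_
    exact (congrArg (fun z => Ext.comp _ z (zero_add 1)) hE'.comp_extClass).trans (Ext.comp_zero _ _ _ _ _)
  | succ n ih =>
    intro F ξ
    let E := ShortComplex.mk (Injective.ι F) (cokernel.π _) (cokernel.condition _)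
    have hE : E.ShortExact := { exact := ShortComplex.exact_of_g_is_cokernel _ (cokernelIsCokernel _) }
    obtain ⟨q, rfl⟩ := Ext.covariant_sequence_exact₁ _ hE ξ (Ext.eq_zero_of_injective _) rfl
    obtain ⟨V, hfin, hsurj, hq⟩ := ih E.X₃ q
    refine ⟨V, hfin, hsurj, ?_⟩
    have hE' := shortExact_map_T V.hom hE
    let φ : E ⟶ E.map (T V.hom) :=
      { τ₁ := (η V.hom).app E.X₁
        τ₂ := (η V.hom).app E.X₂
        τ₃ := (η V.hom).app E.X₃
        comm₁₂ := ((η V.hom).naturality E.f).symm
        comm₂₃ := ((η V.hom).naturality E.g).symm }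
    rw [EtSite.HF_map_apply] at hq ⊢
    refine (Ext.comp_assoc_of_third_deg_zero _ _ _ _).trans ?_
    refine (congrArg (fun z => q.comp z rfl) (ShortComplex.ShortExact.extClass_naturality hE hE' φ)).trans ?_
    refine (Ext.comp_assoc_of_second_deg_zero _ _ _ _).symm.trans ?_
    exact (congrArg (fun z => Ext.comp z hE'.extClass rfl) hq).trans (Ext.zero_comp _ _ _ _ _)

/-- Sheaves with zero stalk at the closed point have no cohomology. -/
theorem subsingleton_H (n : ℕ) : ∀ (K : EtCoh.Ab (Spec (CommRingCat.of A))), IsZero ((EtCoh.stalk (closedGeom A)).obj K) →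
    Subsingleton (EtCoh.H (Spec (CommRingCat.of A)) K n) := by
  induction n with
  | zero =>
    intro K hK
    refine subsingleton_of_forall_eq 0 fun e => (LimCoh.secEq K).injective ?_
    rw [map_zero]
    exact gsec_eq_zero K hK _
  | succ n ih =>
    intro K hK
    refine subsingleton_of_forall_eq 0 fun ξ => ?_
    obtain ⟨V, hfin, hsurj, hξ⟩ := exists_efface n K ξ
    haveI : Mono ((η V.hom).app K) := mono_unit V.hom K
    let E := ShortComplex.mk ((η V.hom).app K) (cokernel.π _) (cokernel.condition _)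
    have hE : E.ShortExact := { exact := ShortComplex.exact_of_g_is_cokernel _ (cokernelIsCokernel _) }
    rw [EtSite.HF_map_apply] at hξ
    obtain ⟨q, rfl⟩ := Ext.covariant_sequence_exact₁ _ hE ξ hξ rfl
    haveI : Epi E.g := hE.epi_g
    have hQ : IsZero ((EtCoh.stalk (closedGeom A)).obj E.X₃) :=
      IsZero.of_epi ((EtCoh.stalk (closedGeom A)).map E.g) (isZero_stalk_pushPull V.hom K hK)
    haveI := ih E.X₃ hQ
    rw [Subsingleton.elim q 0, Ext.zero_comp]

/-- Maps which are bijective at the closed point are bijective on cohomology. -/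
theorem bijective_HF_map_of_mono {F G : EtCoh.Ab (Spec (CommRingCat.of A))} (φ : F ⟶ G) [Mono φ]
    [IsIso ((EtCoh.stalk (closedGeom A)).map φ)] (n : ℕ) : Function.Bijective ((EtCoh.HF (Spec (CommRingCat.of A)) n).map φ) := by
  let E := ShortComplex.mk φ (cokernel.π _) (cokernel.condition _)
  have hE : E.ShortExact := { exact := ShortComplex.exact_of_g_is_cokernel _ (cokernelIsCokernel _) }
  haveI : Epi E.g := hE.epi_g
  have hQ : IsZero ((EtCoh.stalk (closedGeom A)).obj E.X₃) := by
    refine (IsZero.iff_id_eq_zero _).2 ?_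
    rw [← cancel_epi ((EtCoh.stalk (closedGeom A)).map E.g),
      ← cancel_epi ((EtCoh.stalk (closedGeom A)).map φ), Category.comp_id, comp_zero, comp_zero,
      ← Functor.map_comp, show φ ≫ E.g = 0 from E.zero, Functor.map_zero]
  refine ⟨fun a b h => ?_, fun b => ?_⟩
  · rw [← sub_eq_zero]
    have h' : (EtCoh.HF (Spec (CommRingCat.of A)) n).map φ (a - b) = 0 := by rw [map_sub, h, sub_self]
    rw [EtSite.HF_map_apply] at h'
    cases n with
    | zero =>
      exact (Ext.mk₀_bijective _ _).2 (a - b) |>.elim fun c hc => by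
        rw [← hc, Ext.mk₀_comp_mk₀] at h'
        have hc0 : c = 0 := (cancel_mono φ).1
          (((Ext.mk₀_bijective _ _).1 (h'.trans (Ext.mk₀_zero _ _).symm)).trans zero_comp.symm)
        exact hc.symm.trans ((congrArg Ext.mk₀ hc0).trans (Ext.mk₀_zero _ _))
    | succ n =>
      haveI := subsingleton_H n E.X₃ hQ
      obtain ⟨q, hq⟩ := Ext.covariant_sequence_exact₁ _ hE (a - b) h' rfl
      exact hq.symm.trans ((congrArg (fun z => Ext.comp z _ _) (Subsingleton.elim q 0)).trans (Ext.zero_comp _ _ _ _ _))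
  · haveI := subsingleton_H n E.X₃ hQ
    obtain ⟨a, ha⟩ := Ext.covariant_sequence_exact₂ _ hE b (Subsingleton.elim _ _)
    exact ⟨a, (EtSite.HF_map_apply φ n a).trans ha⟩

/-- Epimorphisms which are bijective at the closed point are bijective on cohomology. -/
theorem bijective_HF_map_of_epi {F G : EtCoh.Ab (Spec (CommRingCat.of A))} (φ : F ⟶ G) [Epi φ]
    [IsIso ((EtCoh.stalk (closedGeom A)).map φ)] (n : ℕ) : Function.Bijective ((EtCoh.HF (Spec (CommRingCat.of A)) n).map φ) := by
  let E := ShortComplex.mk (kernel.ι φ) φ (kernel.condition _)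
  have hE : E.ShortExact := { exact := ShortComplex.exact_of_f_is_kernel _ (kernelIsKernel _) }
  haveI : Mono E.f := hE.mono_f
  have hK : IsZero ((EtCoh.stalk (closedGeom A)).obj E.X₁) := by
    refine (IsZero.iff_id_eq_zero _).2 ?_
    rw [← cancel_mono ((EtCoh.stalk (closedGeom A)).map E.f),
      ← cancel_mono ((EtCoh.stalk (closedGeom A)).map φ), Category.id_comp, zero_comp, zero_comp,
      ← Functor.map_comp, show E.f ≫ φ = 0 from E.zero, Functor.map_zero]
  refine ⟨fun a b h => ?_, fun b => ?_⟩
  · rw [← sub_eq_zero]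
    have h' : (EtCoh.HF (Spec (CommRingCat.of A)) n).map φ (a - b) = 0 := by rw [map_sub, h, sub_self]
    rw [EtSite.HF_map_apply] at h'
    haveI := subsingleton_H n E.X₁ hK
    obtain ⟨q, hq⟩ := Ext.covariant_sequence_exact₂ _ hE (a - b) h'
    exact hq.symm.trans ((congrArg (fun z => Ext.comp z _ _) (Subsingleton.elim q 0)).trans (Ext.zero_comp _ _ _ _ _))
  · haveI := subsingleton_H (n + 1) E.X₁ hK
    obtain ⟨a, ha⟩ := Ext.covariant_sequence_exact₃ _ hE b rfl (Subsingleton.elim _ _)
    exact ⟨a, (EtSite.HF_map_apply φ n a).trans ha⟩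

variable (A) in
/-- Restriction to the closed point is bijective on cohomology. -/
theorem bijective_Hpull_closedPoint (F : EtCoh.Ab (Spec (CommRingCat.of A)))
    [PreservesFiniteLimits (EtCoh.pull (Spec.map (CommRingCat.ofHom (IsLocalRing.residue A))))] (n : ℕ) :
    Function.Bijective (EtCore.Hpull (Spec.map (CommRingCat.ofHom (IsLocalRing.residue A))) F n) := by
  let i := Spec.map (CommRingCat.ofHom (IsLocalRing.residue A))
  haveI : IsClosedImmersion i := IsClosedImmersion.spec_of_surjective _ IsLocalRing.residue_surjective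
  let u : F ⟶ (EtCoh.push i).obj ((EtCoh.pull i).obj F) := (EtCoh.pullPushAdj i).unit.app F
  haveI : IsIso ((EtCoh.stalk (closedGeom A)).map u) := by
    haveI := EtSite.isIso_counit i (EtSite.propA_of_isIntegralHom i) ((EtCoh.pull i).obj F)
    have htri : (EtCoh.pull i).map u ≫ (EtCoh.pullPushAdj i).counit.app ((EtCoh.pull i).obj F) = 𝟙 _ :=
      (EtCoh.pullPushAdj i).left_triangle_components F
    haveI : IsIso ((EtCoh.pull i).map u ≫ (EtCoh.pullPushAdj i).counit.app ((EtCoh.pull i).obj F)) := by
      rw [htri]; infer_instance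
    haveI : IsIso ((EtCoh.pull i).map u) :=
      IsIso.of_isIso_comp_right _ ((EtCoh.pullPushAdj i).counit.app ((EtCoh.pull i).obj F))
    let ξ : Spec (CommRingCat.of (AlgebraicClosure (IsLocalRing.ResidueField A))) ⟶
        Spec (CommRingCat.of (IsLocalRing.ResidueField A)) :=
      Spec.map (CommRingCat.ofHom (algebraMap (IsLocalRing.ResidueField A) (AlgebraicClosure (IsLocalRing.ResidueField A))))
    exact (NatIso.isIso_map_iff (EtSite.stalkPullIso i ξ) u).1
      (inferInstanceAs (IsIso ((EtCoh.stalk ξ).map ((EtCoh.pull i).map u))))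
  have hu : Function.Bijective ((EtCoh.HF (Spec (CommRingCat.of A)) n).map u) := by
    haveI : IsIso ((EtCoh.stalk (closedGeom A)).map (Abelian.factorThruImage u ≫ Abelian.image.ι u)) := by
      rw [Abelian.image.fac]; infer_instance
    rw [Functor.map_comp] at this
    haveI : Mono ((EtCoh.stalk (closedGeom A)).map (Abelian.factorThruImage u)) := mono_of_mono _ ((EtCoh.stalk (closedGeom A)).map (Abelian.image.ι u))
    haveI : IsIso ((EtCoh.stalk (closedGeom A)).map (Abelian.factorThruImage u)) := isIso_of_mono_of_epi _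
    haveI : IsIso ((EtCoh.stalk (closedGeom A)).map (Abelian.image.ι u)) :=
      IsIso.of_isIso_comp_left ((EtCoh.stalk (closedGeom A)).map (Abelian.factorThruImage u)) _
    have h1 := bijective_HF_map_of_epi (Abelian.factorThruImage u) n
    have h2 := bijective_HF_map_of_mono (Abelian.image.ι u) n
    have h3 : ((EtCoh.HF (Spec (CommRingCat.of A)) n).map u : _ → _) =
        (EtCoh.HF (Spec (CommRingCat.of A)) n).map (Abelian.image.ι u) ∘ (EtCoh.HF (Spec (CommRingCat.of A)) n).map (Abelian.factorThruImage u) :=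
      funext fun e => by rw [Function.comp_apply, ← LimCoh.HF_map_comp, Abelian.image.fac]
    rw [h3]
    exact h2.comp h1
  have h0 : (EtCore.Hpull i F n : _ → _) = EtLim.HofPush i ((EtCoh.pull i).obj F) n ∘ (EtCoh.HF (Spec (CommRingCat.of A)) n).map u :=
    funext fun e => by rw [Function.comp_apply, EtSite.HF_map_apply, EtSite.Hpull_apply]
  show Function.Bijective (EtCore.Hpull i F n)
  rw [h0]
  exact (EtSite.bijective_HofPush i _ (fun q hq =>
    EtSite.isZero_Rpush_of_propB i (EtSite.propB_of_isIntegralHom i) _ q hq) n).comp hu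

end Groth.L27.HenselClosed
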